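import Cfsg.Agent.Spor.O351A1.D0

set_option autoImplicit false
set_option maxRecDepth 100000000
set_option Elab.async false

namespace Cfsg.Agent.Spor.O351A1

theorem ok0 : Net.okb 1 n0 = true := by decide +kernel

theorem ok1 : Net.okb 1 n1 = true := by decide +kernel

theorem ok2 : Net.okb 1 n2 = true := by decide +kernel

theorem ok3 : Net.okb 1 n3 = true := by decide +kernel

theorem ok4 : Net.okb 1 n4 = true := by decide +kernel

theorem ok5 : Net.okb 1 n5 = true := by decide +kernel

theorem ok6 : Net.okb 1 n6 = true := by decide +kernel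

theorem ok7 : Net.okb 1 n7 = true := by decide +kernel

theorem rel0 : T.rel 1 [1, 1] 0 1 = true := by decide +kernel

theorem rel1 : T.rel 1 [2, 2] 0 1 = true := by decide +kernel

theorem rel2 : T.rel 1 [3, 3] 0 1 = true := by decide +kernel

theorem rel3 : T.rel 1 [4, 4] 0 1 = true := by decide +kernel

theorem rel4 : T.rel 1 [5, 5] 0 1 = true := by decide +kernel

theorem rel5 : T.rel 1 [6, 6] 0 1 = true := by decide +kernel

theorem rel6 : T.rel 1 [7, 7] 0 1 = true := by decide +kernel

theorem rel7 : T.rel 1 [8, 8] 0 1 = true := by decide +kernel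

theorem rel8 : T.rel 1 [2, 1, 2, 1, 2, 1] 0 1 = true := by decide +kernel

theorem rel9 : T.rel 1 [3, 1, 3, 1] 0 1 = true := by decide +kernel

theorem rel10 : T.rel 1 [4, 1, 4, 1] 0 1 = true := by decide +kernel

theorem rel11 : T.rel 1 [5, 1, 5, 1] 0 1 = true := by decide +kernel

theorem rel12 : T.rel 1 [6, 1, 6, 1] 0 1 = true := by decide +kernel

theorem rel13 : T.rel 1 [7, 1, 7, 1] 0 1 = true := by decide +kernel

theorem rel14 : T.rel 1 [8, 1, 8, 1] 0 1 = true := by decide +kernel

theorem rel15 : T.rel 1 [3, 2, 3, 2, 3, 2] 0 1 = true := by decide +kernel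

theorem rel16 : T.rel 1 [4, 2, 4, 2] 0 1 = true := by decide +kernel

theorem rel17 : T.rel 1 [5, 2, 5, 2] 0 1 = true := by decide +kernel

theorem rel18 : T.rel 1 [6, 2, 6, 2] 0 1 = true := by decide +kernel

theorem rel19 : T.rel 1 [7, 2, 7, 2] 0 1 = true := by decide +kernel

theorem rel20 : T.rel 1 [8, 2, 8, 2] 0 1 = true := by decide +kernel

theorem rel21 : T.rel 1 [4, 3, 4, 3, 4, 3] 0 1 = true := by decide +kernel

theorem rel22 : T.rel 1 [5, 3, 5, 3] 0 1 = true := by decide +kernel

theorem rel23 : T.rel 1 [6, 3, 6, 3] 0 1 = true := by decide +kernel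

theorem rel24 : T.rel 1 [7, 3, 7, 3, 7, 3] 0 1 = true := by decide +kernel

theorem rel25 : T.rel 1 [8, 3, 8, 3] 0 1 = true := by decide +kernel

theorem rel26 : T.rel 1 [5, 4, 5, 4, 5, 4] 0 1 = true := by decide +kernel

theorem rel27 : T.rel 1 [6, 4, 6, 4] 0 1 = true := by decide +kernel

theorem rel28 : T.rel 1 [7, 4, 7, 4] 0 1 = true := by decide +kernel

theorem rel29 : T.rel 1 [8, 4, 8, 4] 0 1 = true := by decide +kernel

theorem rel30 : T.rel 1 [6, 5, 6, 5, 6, 5] 0 1 = true := by decide +kernel

theorem rel31 : T.rel 1 [7, 5, 7, 5] 0 1 = true := by decide +kernel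

theorem rel32 : T.rel 1 [8, 5, 8, 5] 0 1 = true := by decide +kernel

theorem rel33 : T.rel 1 [7, 6, 7, 6] 0 1 = true := by decide +kernel

theorem rel34 : T.rel 1 [8, 6, 8, 6] 0 1 = true := by decide +kernel

theorem rel35 : T.rel 1 [8, 7, 8, 7, 8, 7] 0 1 = true := by decide +kernel

theorem rel36 : T.rel 1 [8, 7, 3, 5, 4, 3, 1, 2, 3, 8, 7, 3, 5, 4, 3, 1, 2, 3, 8, 7, 3, 5, 4, 3, 1, 2, 3, 8, 7, 3, 5, 4, 3, 1, 2, 3, 8, 7, 3, 5, 4, 3, 1, 2, 3, 8, 7, 3, 5, 4, 3, 1, 2, 3, 8, 7, 3, 5, 4, 3, 1, 2, 3, 8, 7, 3, 5, 4, 3, 1, 2, 3, 8, 7, 3, 5, 4, 3, 1, 2, 3, 8, 7, 3, 5, 4, 3, 1, 2, 3] 0 1 = true := by decide +kernel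

theorem rel37 : T.rel 1 [7, 6, 5, 4, 3, 2, 1, 7, 6, 5, 4, 3, 2, 1, 7, 6, 5, 4, 3, 2, 1, 7, 6, 5, 4, 3, 2, 1, 7, 6, 5, 4, 3, 2, 1, 7, 6, 5, 4, 3, 2, 1, 7, 6, 5, 4, 3, 2, 1, 7, 6, 5, 4, 3, 2, 1, 7, 6, 5, 4, 3, 2, 1] 0 1 = true := by decide +kernel

theorem rel38 : T.rel 1 [2, 1, 2, 1] 0 1 = true := by decide +kernel

theorem rel39 : T.rel 1 [3, 2, 3, 2] 0 1 = true := by decide +kernel

theorem rel40 : T.rel 1 [4, 3, 4, 3] 0 1 = true := by decide +kernel

theorem rel41 : T.rel 1 [7, 3, 7, 3] 0 1 = true := by decide +kernel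

theorem rel42 : T.rel 1 [5, 4, 5, 4] 0 1 = true := by decide +kernel

theorem rel43 : T.rel 1 [6, 5, 6, 5] 0 1 = true := by decide +kernel

theorem rel44 : T.rel 1 [8, 7, 8, 7] 0 1 = true := by decide +kernel

theorem hcov : T.treeCov (ones 1) L 1 = true := by decide +kernel

theorem hg : lall (fun z => band (memL L z) (band (sub (ones 1) (T.let z).cl) (T.closed (ones 1) z))) gs = true := by decide +kernel

theorem hivk : ivOk (2 * 8) EX IV = true := by decide +kernel

theorem hrt : RT.ok (2 * 8) EX RL = true := by decide +kernel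

theorem hdefs : defs F 20 = true := by decide +kernel

noncomputable def st0_l : List Nat := [nat_lit 0xe0000100000003, nat_lit 0x78000a40000200003000078000a406, nat_lit 0xe0001580000403, nat_lit 0x160000a402, nat_lit 0x100000200000003, nat_lit 0x4000178000c003, nat_lit 0x188000b80000a00033000188000b806, nat_lit 0x110001a80000003, nat_lit 0x1b00001002, nat_lit 0x120000300000003, nat_lit 0x60001c0000e803, nat_lit 0x1d8000e40000e0003d0001d8000e406, nat_lit 0x130001f80000003, nat_lit 0x2000001802, nat_lit 0x140000400000003, nat_lit 0x80002100011003, nat_lit 0x2280010c00012000470002280010c06, nat_lit 0x150002480000003, nat_lit 0x2500002002, nat_lit 0x160000500000003, nat_lit 0xa0002600013803, nat_lit 0x2780013400016000510002780013406, nat_lit 0x170002980000003, nat_lit 0x2a00002802, nat_lit 0x180000600000003, nat_lit 0xc0001c00016003, nat_lit 0x2c8000e40001a0005b0002c8000e406, nat_lit 0x190002e80000003, nat_lit 0x2f00003002, nat_lit 0x170000e0000860004c0002b800180000020002f0001c8001080009a00056000308000000005c0003800021800130000ae00060000008000bc000720004200026800158000c200000000170000e0000860004c0002b800180000020002f0001c8001080009a00056000308000000005c0003800021800130000ae00060000008000bc000720004200026800158000c200000000170000e0000860004c0002b8001803f,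 nat_lit 0x80018c02, nat_lit 0x1a0003280006c03, nat_lit 0x33000068000c80001b0003300006806, nat_lit 0xd8001a402, nat_lit 0x1c0003580007403, nat_lit 0x36000070000d40001d0003600007006, nat_lit 0xe8001bc02, nat_lit 0x1e0003880007c03, nat_lit 0x39000078000e00001f0003900007806, nat_lit 0xf8001d402, nat_lit 0x200003b80008403, nat_lit 0x3c000080000ec000210003c00008006, nat_lit 0x108001ec02, nat_lit 0x220003e80008c03, nat_lit 0x3f000088000f8000230003f00008806, nat_lit 0x1180020402, nat_lit 0x240003880009403, nat_lit 0x42000090000e0000250004200009006, nat_lit 0x1280021c02, nat_lit 0x260004480009c03, nat_lit 0x4500009800110000270004500009806, nat_lit 0x1380023402]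
theorem st0 : band (steps F IV RT base st0_l 20) (Nat.beq (Nat.add 20 (llen st0_l)) 72) = true := by decide +kernel

theorem ep0a : T.treePath [] (Nat.shiftLeft 1 0) 1 = true := by decide +kernel

theorem ep0b : T.treePath [] (Nat.shiftLeft 1 0) 1 = true := by decide +kernel

theorem ep0c : band (lall (fun z => Nat.ble z 255) ([] ++ 1 :: [])) (concl F IV 72 0x19001 (encA ([] ++ 1 :: []) 0)) = true := by decide +kernel

theorem ep0d : band (Rule.ok (2 * 8) EX [] ⟨lapp [] [], [], 0, false⟩) (band (lall (memL L) []) (lall (memL L) [])) = true := by decide +kernel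

theorem cov1 : T.cover 1 [(Nat.shiftLeft 1 0)] = true := by decide +kernel

theorem tl1 : Nat.beq (T.let 1).tt 0 = true := by decide +kernel

theorem ep1a : T.treePath [] (Nat.shiftLeft 1 0) 1 = true := by decide +kernel

theorem ep1b : T.treePath [] (Nat.shiftLeft 1 0) 1 = true := by decide +kernel

theorem ep1c : band (lall (fun z => Nat.ble z 255) ([] ++ 2 :: [])) (concl F IV 72 0x1a801 (encA ([] ++ 2 :: []) 0)) = true := by decide +kernel

theorem ep1d : band (Rule.ok (2 * 8) EX [] ⟨lapp [] [], [], 0, false⟩) (band (lall (memL L) []) (lall (memL L) [])) = true := by decide +kernel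

theorem cov2 : T.cover 2 [(Nat.shiftLeft 1 0)] = true := by decide +kernel

theorem tl2 : Nat.beq (T.let 2).tt 0 = true := by decide +kernel

theorem ep2a : T.treePath [] (Nat.shiftLeft 1 0) 1 = true := by decide +kernel

theorem ep2b : T.treePath [] (Nat.shiftLeft 1 0) 1 = true := by decide +kernel

theorem ep2c : band (lall (fun z => Nat.ble z 255) ([] ++ 3 :: [])) (concl F IV 72 0x1c001 (encA ([] ++ 3 :: []) 0)) = true := by decide +kernel

theorem ep2d : band (Rule.ok (2 * 8) EX [] ⟨lapp [] [], [], 0, false⟩) (band (lall (memL L) []) (lall (memL L) [])) = true := by decide +kernel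

theorem cov3 : T.cover 3 [(Nat.shiftLeft 1 0)] = true := by decide +kernel

theorem tl3 : Nat.beq (T.let 3).tt 0 = true := by decide +kernel

theorem ep3a : T.treePath [] (Nat.shiftLeft 1 0) 1 = true := by decide +kernel

theorem ep3b : T.treePath [] (Nat.shiftLeft 1 0) 1 = true := by decide +kernel

theorem ep3c : band (lall (fun z => Nat.ble z 255) ([] ++ 4 :: [])) (concl F IV 72 0x1d801 (encA ([] ++ 4 :: []) 0)) = true := by decide +kernel

theorem ep3d : band (Rule.ok (2 * 8) EX [] ⟨lapp [] [], [], 0, false⟩) (band (lall (memL L) []) (lall (memL L) [])) = true := by decide +kernel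

theorem cov4 : T.cover 4 [(Nat.shiftLeft 1 0)] = true := by decide +kernel

theorem tl4 : Nat.beq (T.let 4).tt 0 = true := by decide +kernel

theorem ep4a : T.treePath [] (Nat.shiftLeft 1 0) 1 = true := by decide +kernel

theorem ep4b : T.treePath [] (Nat.shiftLeft 1 0) 1 = true := by decide +kernel

theorem ep4c : band (lall (fun z => Nat.ble z 255) ([] ++ 5 :: [])) (concl F IV 72 0x1f001 (encA ([] ++ 5 :: []) 0)) = true := by decide +kernel

theorem ep4d : band (Rule.ok (2 * 8) EX [] ⟨lapp [] [], [], 0, false⟩) (band (lall (memL L) []) (lall (memL L) [])) = true := by decide +kernel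

theorem cov5 : T.cover 5 [(Nat.shiftLeft 1 0)] = true := by decide +kernel

theorem tl5 : Nat.beq (T.let 5).tt 0 = true := by decide +kernel

theorem ep5a : T.treePath [] (Nat.shiftLeft 1 0) 1 = true := by decide +kernel

theorem ep5b : T.treePath [] (Nat.shiftLeft 1 0) 1 = true := by decide +kernel

theorem ep5c : band (lall (fun z => Nat.ble z 255) ([] ++ 6 :: [])) (concl F IV 72 0x20801 (encA ([] ++ 6 :: []) 0)) = true := by decide +kernel

theorem ep5d : band (Rule.ok (2 * 8) EX [] ⟨lapp [] [], [], 0, false⟩) (band (lall (memL L) []) (lall (memL L) [])) = true := by decide +kernel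

theorem cov6 : T.cover 6 [(Nat.shiftLeft 1 0)] = true := by decide +kernel

theorem tl6 : Nat.beq (T.let 6).tt 0 = true := by decide +kernel

theorem ep6a : T.treePath [] (Nat.shiftLeft 1 0) 1 = true := by decide +kernel

theorem ep6b : T.treePath [] (Nat.shiftLeft 1 0) 1 = true := by decide +kernel

theorem ep6c : band (lall (fun z => Nat.ble z 255) ([] ++ 7 :: [])) (concl F IV 72 0x22001 (encA ([] ++ 7 :: []) 0)) = true := by decide +kernel

theorem ep6d : band (Rule.ok (2 * 8) EX [] ⟨lapp [] [], [], 0, false⟩) (band (lall (memL L) []) (lall (memL L) [])) = true := by decide +kernel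

theorem cov7 : T.cover 7 [(Nat.shiftLeft 1 0)] = true := by decide +kernel

theorem tl7 : Nat.beq (T.let 7).tt 0 = true := by decide +kernel

theorem ep7a : T.treePath [] (Nat.shiftLeft 1 0) 1 = true := by decide +kernel

theorem ep7b : T.treePath [] (Nat.shiftLeft 1 0) 1 = true := by decide +kernel

theorem ep7c : band (lall (fun z => Nat.ble z 255) ([] ++ 8 :: [])) (concl F IV 72 0x23801 (encA ([] ++ 8 :: []) 0)) = true := by decide +kernel

theorem ep7d : band (Rule.ok (2 * 8) EX [] ⟨lapp [] [], [], 0, false⟩) (band (lall (memL L) []) (lall (memL L) [])) = true := by decide +kernel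

theorem cov8 : T.cover 8 [(Nat.shiftLeft 1 0)] = true := by decide +kernel

theorem tl8 : Nat.beq (T.let 8).tt 0 = true := by decide +kernel

end Cfsg.Agent.Spor.O351A1
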